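import Mathlib

/-!
# 2-elements of a symmetric group lying in a unique Sylow 2-subgroup
-/

set_option autoImplicit false
set_option linter.unusedSectionVars false

namespace H33.SylSym

open Equiv Function Subgroup

variable {α : Type} [Fintype α] [DecidableEq α] {x z : Perm α} {a b c : α} {k : ℕ}

/-- the length of the cycle through `a` -/
noncomputable def L (x : Perm α) (a : α) : ℕ := minimalPeriod x a

theorem per {n : ℕ} : (x ^ n) a = a ↔ L x a ∣ n := by
  rw [L, ← isPeriodicPt_iff_minimalPeriod_dvd, Perm.coe_pow]; rfl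

theorem L_eq {β : Type} [Fintype β] [DecidableEq β] {y : Perm β} {b : β}
    (h : ∀ n : ℕ, (x ^ n) a = a ↔ (y ^ n) b = b) : L x a = L y b :=
  Nat.dvd_antisymm (per.1 ((h _).2 (per.2 dvd_rfl))) (per.1 ((h _).1 (per.2 dvd_rfl)))

theorem L_comm (h : Commute z x) (a : α) : L x (z a) = L x a := L_eq (y := x) fun n => by
  rw [← Perm.mul_apply, ← (h.pow_right n).eq, Perm.mul_apply, z.injective.eq_iff]

theorem half (hx : x ^ 2 ^ k = 1) (ha : x a ≠ a) : ∃ j, L x a = 2 * 2 ^ j := by
  obtain ⟨j, -, e⟩ := (Nat.dvd_prime_pow Nat.prime_two).1 (per.1 (show (x ^ 2 ^ k) a = a by rw [hx]; rfl))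
  rcases j with _ | j
  · exact absurd (by simpa using (per (n := 1)).2 (by rw [e]; rfl)) ha
  · exact ⟨j, by rw [e, pow_succ']⟩

/-- at most two fixed points, and the non-trivial cycles have different lengths -/
structure C (x : Perm α) : Prop where
  cyc : ∀ a b, x a ≠ a → L x a = L x b → x.SameCycle a b
  fix : ∀ a b c, x a = a → x b = b → x c = c → a = b ∨ a = c ∨ b = c

/-- involutions with at most one fixed point -/
def I (α : Type) : Type := {z : Perm α // z * z = 1 ∧ ∀ a b, z a = a → z b = b → a = b}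

instance : Finite (I α) := Subtype.finite

instance : MulAction (Perm α) (I α) where
  smul g z := ⟨g * z.1 * g⁻¹, by rw [conj_mul, z.2.1, mul_one, mul_inv_cancel], fun a b ha hb =>
    g⁻¹.injective (z.2.2 _ _ (g.injective (by simpa using ha)) (g.injective (by simpa using hb)))⟩
  one_smul z := Subtype.ext (by change 1 * z.1 * 1⁻¹ = z.1; simp)
  mul_smul g h z := Subtype.ext (by change g * h * z.1 * (g * h)⁻¹ = g * (h * z.1 * h⁻¹) * g⁻¹; group)

theorem smul_iff (g : Perm α) (z : I α) : g • z = z ↔ Commute z.1 g := by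
  refine Subtype.ext_iff.trans ?_
  change g * z.1 * g⁻¹ = z.1 ↔ _
  rw [mul_inv_eq_iff_eq_mul, commute_iff_eq, eq_comm]

theorem on_cyc (hx : x ^ 2 ^ k = 1) (h : C x) (z : I α) (hz : Commute z.1 x) (ha : x a ≠ a) :
    z.1 a = (x ^ (L x a / 2)) a := by
  obtain ⟨j, e⟩ := half hx ha
  obtain ⟨i, hi⟩ := (h.cyc a (z.1 a) ha (L_comm hz a).symm).exists_nat_pow_eq
  have h1 : z.1 a ≠ a := fun k => ha (z.2.2 _ _ (by rw [← Perm.mul_apply, hz.eq, Perm.mul_apply, k]) k)
  have h2 : (x ^ (2 * i)) a = a := by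
    rw [two_mul, pow_add, Perm.mul_apply, hi, ← Perm.mul_apply, ← (hz.pow_right i).eq, Perm.mul_apply, hi, ← Perm.mul_apply,
      z.2.1, Perm.one_apply]
  rw [per, e, Nat.mul_dvd_mul_iff_left two_pos] at h2
  obtain ⟨t, rfl⟩ := h2
  rw [← hi, Ne, per, e] at h1
  obtain ⟨u, rfl | rfl⟩ := Nat.even_or_odd' t
  · exact absurd ⟨u, by ring⟩ h1
  · rw [← hi, e, Nat.mul_div_cancel_left _ two_pos, show 2 ^ j * (2 * u + 1) = 2 ^ j + 2 * 2 ^ j * u by ring, pow_add,
      Perm.mul_apply, (per (n := 2 * 2 ^ j * u)).2 (by rw [e]; exact dvd_mul_right _ _)]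

theorem on_fix (h : C x) (z : I α) (hz : Commute z.1 x) (ha : x a = a) (hb : x b = b) (hab : a ≠ b) : z.1 a = b := by
  have k : ∀ {a}, x a = a → x (z.1 a) = z.1 a := fun ha => by rw [← Perm.mul_apply, ← hz.eq, Perm.mul_apply, ha]
  rcases h.fix a b _ ha hb (k ha) with e | e | e
  · exact absurd e hab
  · rcases h.fix a b _ ha hb (k hb) with e' | e' | e'
    · exact absurd e' hab
    · exact absurd (z.1.injective (e.symm.trans e')) hab
    · exact absurd (z.2.2 _ _ e.symm e'.symm) hab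
  · exact e.symm

theorem uniq (hx : x ^ 2 ^ k = 1) (h : C x) (z w : I α) (hz : Commute z.1 x) (hw : Commute w.1 x) : z = w := by
  refine Subtype.ext (Perm.ext fun a => ?_)
  by_cases ha : x a = a
  · by_cases hb : ∃ b, x b = b ∧ a ≠ b
    · obtain ⟨b, hb, hab⟩ := hb
      rw [on_fix h z hz ha hb hab, on_fix h w hw ha hb hab]
    · push Not at hb
      rw [← hb (z.1 a) (by rw [← Perm.mul_apply, ← hz.eq, Perm.mul_apply, ha]),
        ← hb (w.1 a) (by rw [← Perm.mul_apply, ← hw.eq, Perm.mul_apply, ha])]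
  · rw [on_cyc hx h z hz ha, on_cyc hx h w hw ha]

open Classical in
theorem exists_z (hx : x ^ 2 ^ k = 1) (h : C x) : ∃ z : I α, Commute z.1 x := by
  let f : α → α := fun a => if x a = a then (if h' : ∃ b, x b = b ∧ a ≠ b then h'.choose else a) else (x ^ (L x a / 2)) a
  have f1 : ∀ a, x a ≠ a → f a = (x ^ (L x a / 2)) a := fun a ha => if_neg ha
  have f2 : ∀ a b, x a = a → x b = b → a ≠ b → f a = b := fun a b ha hb hab => by
    have h' : ∃ b, x b = b ∧ a ≠ b := ⟨b, hb, hab⟩
    have : f a = h'.choose := by simp only [f, if_pos ha, dif_pos h']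
    rcases h.fix a b _ ha hb h'.choose_spec.1 with e | e | e
    exacts [absurd e hab, absurd e h'.choose_spec.2, this.trans e.symm]
  have f3 : ∀ a, x a = a → (¬ ∃ b, x b = b ∧ a ≠ b) → f a = a := fun a ha h' => by simp only [f, if_pos ha, dif_neg h']
  have mv : ∀ a n, x a ≠ a → x ((x ^ n) a) ≠ (x ^ n) a := fun a n ha e => ha ((x ^ n).injective (by
    rwa [← Perm.mul_apply, ← pow_succ, pow_succ', Perm.mul_apply]))
  have inv : Involutive f := fun a => by
    by_cases ha : x a = a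
    · by_cases hb : ∃ b, x b = b ∧ a ≠ b
      · obtain ⟨b, hb, hab⟩ := hb
        rw [f2 a b ha hb hab, f2 b a hb ha hab.symm]
      · rw [f3 a ha hb, f3 a ha hb]
    · obtain ⟨j, e⟩ := half hx ha
      rw [f1 a ha, f1 _ (mv a _ ha), L_comm (Commute.pow_self x _), ← Perm.mul_apply, ← pow_add, per, e,
        Nat.mul_div_cancel_left _ two_pos, two_mul]
  have nf : ∀ a, f a = a → x a = a := fun a ha => by_contra fun k => by
    obtain ⟨j, e⟩ := half hx k
    rw [f1 a k, per, e, Nat.mul_div_cancel_left _ two_pos] at ha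
    have := Nat.le_of_dvd (by positivity) ha
    have : 0 < 2 ^ j := by positivity
    omega
  refine ⟨⟨inv.toPerm f, Perm.ext inv, fun a b ha hb => by_contra fun hab => ?_⟩, Perm.ext fun a => ?_⟩
  · exact hab (ha.symm.trans (f2 a b (nf a ha) (nf b hb) hab))
  · change f (x a) = x (f a)
    by_cases ha : x a = a
    · rw [ha]
      by_cases hb : ∃ b, x b = b ∧ a ≠ b
      · obtain ⟨b, hb, hab⟩ := hb
        rw [f2 a b ha hb hab, hb]
      · rw [f3 a ha hb, ha]
    · rw [f1 a ha, f1 _ (by simpa using mv a 1 ha), L_comm (Commute.refl x), ← Perm.mul_apply, ← Perm.mul_apply,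
        ← pow_succ, ← pow_succ']

theorem le_cent (hx : x ^ 2 ^ k = 1) (h : C x) (z : I α) (hz : Commute z.1 x) {P : Subgroup (Perm α)} (hP : IsPGroup 2 P)
    (hxP : x ∈ P) : P ≤ centralizer {z.1} := by
  have : Fact (Nat.Prime 2) := ⟨Nat.prime_two⟩
  have h1 := (hP.to_le (zpowers_le.2 hxP)).card_modEq_card_fixedPoints (I α)
  have h2 : Nat.card (MulAction.fixedPoints (zpowers x) (I α)) = 1 := Nat.card_eq_one_iff_exists.2
    ⟨⟨z, fun ⟨_, n, e⟩ => (smul_iff _ z).2 (e ▸ hz.zpow_right n)⟩, fun w => Subtype.ext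
      (uniq hx h _ _ ((smul_iff x w.1).1 (w.2 ⟨x, mem_zpowers x⟩)) hz)⟩
  obtain ⟨w, hw⟩ := hP.nonempty_fixed_point_of_prime_not_dvd_card (I α) (by
    rw [h2] at h1
    exact fun d => absurd ((Nat.modEq_zero_iff_dvd.2 d).symm.trans h1) (by decide))
  obtain rfl := uniq hx h w z ((smul_iff x w).1 (hw ⟨x, hxP⟩)) hz
  exact fun g hg => mem_centralizer_singleton_iff.2 ((smul_iff g w).1 (hw ⟨g, hg⟩)).symm.eq

/-- the orbits of an involution -/
def R (z : I α) : Setoid α where
  r a b := b = a ∨ b = z.1 a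
  iseqv := ⟨fun _ => Or.inl rfl, fun h => h.imp Eq.symm fun e => by rw [e, ← Perm.mul_apply, z.2.1, Perm.one_apply],
    by
      rintro a _ _ (rfl | rfl) (rfl | rfl)
      exacts [Or.inl rfl, Or.inr rfl, Or.inr rfl, Or.inl (by rw [← Perm.mul_apply, z.2.1, Perm.one_apply])]⟩

instance (z : I α) : MulAction (centralizer {z.1}) (Quotient (R z)) where
  smul g := Quotient.map g.1 fun a b h => h.imp (congrArg _) fun e => by
    rw [e, ← Perm.mul_apply, mem_centralizer_singleton_iff.1 g.2, Perm.mul_apply]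
  one_smul q := Quotient.inductionOn q fun _ => rfl
  mul_smul _ _ q := Quotient.inductionOn q fun _ => rfl

/-- the action on the orbits -/
def φ (z : I α) : centralizer {z.1} →* Perm (Quotient (R z)) := MulAction.toPermHom _ _

theorem φ_mk (z : I α) (g : centralizer {z.1}) (a : α) : φ z g ⟦a⟧ = ⟦g.1 a⟧ := rfl

theorem φ_fix (z : I α) (g : centralizer {z.1}) (a : α) : φ z g ⟦a⟧ = ⟦a⟧ ↔ g.1 a = a ∨ g.1 a = z.1 a := by
  rw [φ_mk, eq_comm, Quotient.eq]; rfl

theorem ker_φ (z : I α) : IsPGroup 2 (φ z).ker := fun g => ⟨1, Subtype.ext (Subtype.ext (Perm.ext fun a => by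
  change g.1.1 (g.1.1 a) = a
  rcases (φ_fix z g.1 a).1 (by rw [MonoidHom.mem_ker.1 g.2]; rfl) with e | e
  · rw [e, e]
  · rw [e, ← Perm.mul_apply, mem_centralizer_singleton_iff.1 g.1.2, Perm.mul_apply, e, ← Perm.mul_apply, z.2.1,
      Perm.one_apply]))⟩

open Classical in
theorem C.quot (z : I α) [Fintype (Quotient (R z))] (g : centralizer {z.1}) (hx : g.1 ^ 2 ^ k = 1) (h : C g.1) :
    C (φ z g) := by
  have hz : Commute z.1 g.1 := (mem_centralizer_singleton_iff.1 g.2).symm
  have key : ∀ a j, g.1 a ≠ a → L g.1 a = 2 * 2 ^ j → L (φ z g) ⟦a⟧ = 2 ^ j := fun a j ha e => by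
    have e1 := on_cyc hx h z hz ha
    rw [e, Nat.mul_div_cancel_left _ two_pos] at e1
    refine Nat.dvd_antisymm (per.1 ?_) ?_
    · rw [← map_pow, φ_fix]; exact Or.inr e1.symm
    · have := (per (x := φ z g) (a := ⟦a⟧)).2 dvd_rfl
      rw [← map_pow, φ_fix, coe_pow] at this
      rcases this with k | k
      · exact (Dvd.intro_left 2 e.symm).trans (per.1 k)
      · have : (g.1 ^ (2 ^ j + L (φ z g) ⟦a⟧)) a = a := by
          rw [pow_add, Perm.mul_apply, k, e1, ← Perm.mul_apply, ← pow_add, per, e, two_mul]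
        exact (Nat.dvd_add_right dvd_rfl).1 ((Dvd.intro_left 2 e.symm).trans (per.1 this))
  have sc : ∀ a b, g.1.SameCycle a b → (φ z g).SameCycle ⟦a⟧ ⟦b⟧ := by
    rintro a _ ⟨i, rfl⟩
    exact ⟨i, by rw [← map_zpow, φ_mk, coe_zpow]⟩
  constructor
  · intro p q
    refine Quotient.inductionOn₂ p q fun a b ha e => ?_
    have a1 : g.1 a ≠ a := fun k => ha ((φ_fix z g a).2 (Or.inl k))
    have b1 : g.1 b ≠ b := fun k => ha (by
      have : L (φ z g) ⟦b⟧ ∣ 1 := per.1 (by rw [pow_one, φ_fix]; exact Or.inl k)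
      exact (pow_one (φ z g) ▸ per.2 (e ▸ this) :))
    obtain ⟨i, hi⟩ := half hx a1
    obtain ⟨j, hj⟩ := half hx b1
    exact sc a b (h.cyc a b a1 (by rw [hi, hj, ← key a i a1 hi, ← key b j b1 hj, e]))
  · have two : ∀ a, φ z g ⟦a⟧ = ⟦a⟧ → g.1 a ≠ a → L g.1 a = 2 := fun a ha a1 => by
      obtain ⟨i, hi⟩ := half hx a1
      rw [hi, ← key a i a1 hi, Nat.dvd_one.1 (per.1 (by rwa [pow_one]))]
    have same : ∀ a b, φ z g ⟦a⟧ = ⟦a⟧ → φ z g ⟦b⟧ = ⟦b⟧ → (g.1 a = a ↔ g.1 b = b) → (⟦a⟧ : Quotient (R z)) = ⟦b⟧ := by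
      intro a b ha hb e
      by_cases a1 : g.1 a = a
      · by_cases hab : a = b
        · rw [hab]
        · exact Quotient.sound (Or.inr (on_fix h z hz a1 (e.1 a1) hab).symm)
      · exact (sc a b (h.cyc a b a1 (by rw [two a ha a1, two b hb fun k => a1 (e.2 k)]))).eq_of_left ha
    intro p q r
    refine Quotient.inductionOn₃ p q r fun a b c ha hb hc => ?_
    have := same a b ha hb
    have := same a c ha hc
    have := same b c hb hc
    tauto

theorem sup (n : ℕ) : ∀ (α : Type) [Fintype α] [DecidableEq α], Fintype.card α = n → ∀ x : Perm α, x ^ 2 ^ k = 1 → C x →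
    ∀ P Q : Subgroup (Perm α), IsPGroup 2 P → IsPGroup 2 Q → x ∈ P → x ∈ Q → IsPGroup 2 (P ⊔ Q : Subgroup (Perm α)) := by
  induction n using Nat.strong_induction_on with
  | _ n ih =>
    intro α _ _ hn x hx h P Q hP hQ xP xQ
    classical
    rcases subsingleton_or_nontrivial α with hα | hα
    · exact fun g => ⟨0, Subsingleton.elim _ _⟩
    obtain ⟨z, hz⟩ := exists_z hx h
    have p1 := le_cent hx h z hz hP xP
    have q1 := le_cent hx h z hz hQ xQ
    obtain ⟨a, ha⟩ : ∃ a, z.1 a ≠ a := by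
      by_contra hc
      push Not at hc
      obtain ⟨a, b, hab⟩ := exists_pair_ne α
      exact hab (z.2.2 a b (hc a) (hc b))
    have lt : Fintype.card (Quotient (R z)) < n := hn ▸ Fintype.card_lt_of_surjective_not_injective (Quotient.mk (R z))
      Quotient.mk_surjective fun k => ha (k (Quotient.sound (s := R z) (Or.inr rfl))).symm
    have := ih _ lt _ rfl (φ z ⟨x, p1 xP⟩) (by rw [← map_pow, ← map_one (φ z)]; exact congrArg _ (Subtype.ext hx))
      (C.quot z _ hx h) ((P.subgroupOf _).map (φ z)) ((Q.subgroupOf _).map (φ z))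
      ((hP.comap_of_injective _ (subtype_injective _)).map _) ((hQ.comap_of_injective _ (subtype_injective _)).map _)
      (mem_map_of_mem _ xP) (mem_map_of_mem _ xQ)
    refine ((this.comap_of_ker_isPGroup (φ z) (ker_φ z)).map (centralizer {z.1}).subtype).to_le (sup_le ?_ ?_)
    · exact fun g hg => ⟨⟨g, p1 hg⟩, mem_sup_left (mem_map_of_mem _ hg), rfl⟩
    · exact fun g hg => ⟨⟨g, q1 hg⟩, mem_sup_right (mem_map_of_mem _ hg), rfl⟩

theorem exists_swap (hx : x ^ 2 ^ k = 1) (e : L x a = L x b) (hab : ¬ x.SameCycle a b) :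
    ∃ P : Subgroup (Perm α), IsPGroup 2 P ∧ x ∈ P ∧ swap a b ∈ P := by
  let s : Set (Perm α) := {t | ∃ i : ℕ, t = swap ((x ^ i) a) ((x ^ i) b)}
  have cm : ∀ t ∈ s, ∀ u ∈ s, t * u = u * t := by
    rintro _ ⟨i, rfl⟩ _ ⟨j, rfl⟩
    have ne : ∀ i j : ℕ, (x ^ i) a ≠ (x ^ j) b := fun i j k => hab ⟨(i : ℤ) - j, by
      rw [sub_eq_neg_add, zpow_add, Perm.mul_apply, zpow_natCast, k, zpow_neg, zpow_natCast]; simp⟩
    have eq : ∀ i j : ℕ, (x ^ i) a = (x ^ j) a ↔ (x ^ i) b = (x ^ j) b := by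
      have : ∀ i d : ℕ, (x ^ i) a = (x ^ (i + d)) a ↔ (x ^ i) b = (x ^ (i + d)) b := fun i d => by
        rw [pow_add, Perm.mul_apply, Perm.mul_apply, (x ^ i).injective.eq_iff, (x ^ i).injective.eq_iff, eq_comm, per, e,
          ← per, eq_comm]
      intro i j
      rcases le_total i j with h | h <;> obtain ⟨d, rfl⟩ := Nat.exists_eq_add_of_le h
      · exact this _ _
      · rw [eq_comm, this, eq_comm]
    by_cases h : (x ^ i) a = (x ^ j) a
    · rw [h, (eq i j).1 h]
    · exact (Perm.disjoint_swap_swap (by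
        simp only [List.nodup_cons, List.mem_cons, List.not_mem_nil, or_false, not_or, List.nodup_nil, and_true,
          not_false_eq_true]
        exact ⟨⟨ne _ _, h, ne _ _⟩, ⟨(ne _ _).symm, fun k => h ((eq i j).2 k)⟩, ne _ _⟩)).commute.eq
  have h1 : IsPGroup 2 (closure s) := fun g => ⟨1, Subtype.ext (by
    have := g.2
    change g.1 ^ 2 = 1
    generalize g.1 = g at this
    induction this using closure_induction with
    | mem t ht => obtain ⟨i, rfl⟩ := ht; rw [sq, swap_mul_self]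
    | one => simp
    | mul t u ht hu a b =>
      have : Commute t u := congrArg Subtype.val ((isMulCommutative_closure cm).is_comm.comm ⟨t, ht⟩ ⟨u, hu⟩)
      rw [this.mul_pow, a, b, mul_one]
    | inv t _ a => rw [inv_pow, a, inv_one])⟩
  have h2 : IsPGroup 2 (zpowers x) := fun g => ⟨k, Subtype.ext (by
    obtain ⟨_, n, rfl⟩ := g
    change (x ^ n) ^ 2 ^ k = 1
    rw [← zpow_natCast, ← zpow_mul, mul_comm, zpow_mul, zpow_natCast, hx, one_zpow])⟩
  refine ⟨closure s ⊔ zpowers x, h1.to_sup_of_normal_left' h2 (zpowers_le.2 (mem_normalizer_fintype fun g hg => ?_)),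
    mem_sup_right (mem_zpowers x), mem_sup_left (subset_closure ⟨0, rfl⟩)⟩
  induction hg using closure_induction with
  | mem t ht =>
    obtain ⟨i, rfl⟩ := ht
    exact subset_closure ⟨i + 1, by rw [← swap_apply_apply, pow_succ', Perm.mul_apply, Perm.mul_apply]⟩
  | one => simp
  | mul t u _ _ a b => simpa [mul_assoc] using mul_mem a b
  | inv t _ a => simpa [mul_assoc] using inv_mem a

theorem C.of_uniq (hx : x ^ 2 ^ k = 1) {S : Subgroup (Perm α)} (hS : IsPGroup 2 S)
    (h : ∀ P : Subgroup (Perm α), IsPGroup 2 P → x ∈ P → P ≤ S) : C x := by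
  have key : ∀ a b c, L x a = L x b → L x a = L x c → ¬ x.SameCycle a b → ¬ x.SameCycle a c → b = c := by
    intro a b c e1 e2 n1 n2
    by_contra hbc
    obtain ⟨P, p1, p2, p3⟩ := exists_swap hx e1 n1
    obtain ⟨Q, q1, q2, q3⟩ := exists_swap hx e2 n2
    obtain ⟨n, hn⟩ := hS ⟨_, mul_mem (h P p1 p2 p3) (h Q q1 q2 q3)⟩
    have o := (Perm.isThreeCycle_swap_mul_swap_same (fun k : a = b => n1 (k ▸ Perm.SameCycle.rfl))
      (fun k : a = c => n2 (k ▸ Perm.SameCycle.rfl)) hbc).orderOf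
    have := orderOf_dvd_of_pow_eq_one (congrArg Subtype.val hn : (swap a b * swap a c) ^ 2 ^ n = 1)
    rw [o] at this
    exact absurd (Nat.prime_three.dvd_of_dvd_pow this) (by decide)
  constructor
  · intro a b ha e
    by_contra n1
    have := key a b (x b) e (by rw [e, L_comm (Commute.refl x)]) n1 (by rwa [Perm.sameCycle_apply_right])
    exact ha (by simpa using (per (n := 1)).2 (e ▸ per.1 (by simpa using this.symm)))
  · intro a b c ha hb hc
    have l : ∀ {a}, x a = a → L x a = 1 := fun ha => Nat.dvd_one.1 (per.1 (by simpa using ha))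
    by_contra hn
    push Not at hn
    exact hn.2.2 (key a b c (by rw [l ha, l hb]) (by rw [l ha, l hc]) (fun k => hn.1 (k.eq_of_left ha))
      fun k => hn.2.1 (k.eq_of_left ha))

theorem L_card (ha : x a ≠ a) : L x a = (x.cycleOf a).support.card := by
  have := fun n => (x.isCycleOn_support_cycleOf a).pow_apply_eq (n := n)
    (Perm.mem_support_cycleOf_iff.2 ⟨Perm.SameCycle.rfl, Perm.mem_support.2 ha⟩)
  exact Nat.dvd_antisymm (per.1 ((this _).2 dvd_rfl)) ((this _).1 (per.2 dvd_rfl))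

theorem C_iff : C x ↔ Fintype.card α ≤ x.support.card + 2 ∧ x.cycleType.Nodup := by
  have e1 : Fintype.card α ≤ x.support.card + 2 ↔ ¬ 2 < x.supportᶜ.card := by
    have := Finset.card_le_univ x.support
    rw [Finset.card_compl]; omega
  rw [e1, Finset.two_lt_card, Perm.cycleType_def, Multiset.nodup_map_iff_inj_on x.cycleFactorsFinset.nodup]
  constructor
  · refine fun h => ⟨?_, fun c hc d hd e => ?_⟩
    · rintro ⟨a, ha, b, hb, c, hc, k⟩
      have := h.fix a b c (by simpa using ha) (by simpa using hb) (by simpa using hc)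
      tauto
    · obtain ⟨a, ha, rfl⟩ : ∃ a, x a ≠ a ∧ c = x.cycleOf a := by
        obtain ⟨a, ha⟩ := (Perm.mem_cycleFactorsFinset_iff.1 hc).1.nonempty_support
        exact ⟨a, Perm.mem_support.1 (Perm.mem_cycleFactorsFinset_support_le hc ha), Perm.cycle_is_cycleOf ha hc⟩
      obtain ⟨b, hb, rfl⟩ : ∃ a, x a ≠ a ∧ d = x.cycleOf a := by
        obtain ⟨a, ha⟩ := (Perm.mem_cycleFactorsFinset_iff.1 hd).1.nonempty_support
        exact ⟨a, Perm.mem_support.1 (Perm.mem_cycleFactorsFinset_support_le hd ha), Perm.cycle_is_cycleOf ha hd⟩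
      exact (h.cyc a b ha (by rw [L_card ha, L_card hb]; exact e)).cycleOf_eq
  · rintro ⟨h1, h2⟩
    refine ⟨fun a b ha e => ?_, fun a b c ha hb hc => ?_⟩
    · have hb : x b ≠ b := fun k => ha (by simpa using (per (n := 1)).2 (e ▸ per.1 (by simpa using k)))
      have := h2 _ (Perm.cycleOf_mem_cycleFactorsFinset_iff.2 (Perm.mem_support.2 ha)) _
        (Perm.cycleOf_mem_cycleFactorsFinset_iff.2 (Perm.mem_support.2 hb)) (by
          rw [L_card ha, L_card hb] at e; exact e)
      exact (Perm.mem_support_cycleOf_iff.1 (this ▸ Perm.mem_support_cycleOf_iff.2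
        ⟨Perm.SameCycle.rfl, Perm.mem_support.2 hb⟩)).1
    · by_contra hn
      push Not at hn
      exact h1 ⟨a, by simpa using ha, b, by simpa using hb, c, by simpa using hc, hn⟩

end H33.SylSym
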